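import Groth.Prelude.Def_W4c2quivmodsheafKron
import Mathlib.LinearAlgebra.FiniteDimensional.Lemmas
import Mathlib.LinearAlgebra.Dual.Lemmas
import Mathlib.LinearAlgebra.Dimension.Constructions
import Mathlib.LinearAlgebra.Pi

/-!
# Elementary facts on semistable Kronecker modules
-/

namespace GrothLib.Kron

open Submodule KronMod Module

variable {K : Type*} [Field K] {V W : Type*} [AddCommGroup V] [Module K V] [AddCommGroup W] [Module K W]
  {n : ℕ}

/-- The sum map `V^n → W`. -/
def sumMap (f : Fin n → (V →ₗ[K] W)) : (Fin n → V) →ₗ[K] W := ∑ j, f j ∘ₗ LinearMap.proj j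

lemma sumMap_apply (f : Fin n → (V →ₗ[K] W)) (v : Fin n → V) : sumMap f v = ∑ j, f j (v j) := by
  simp [sumMap]

lemma sumMap_single (f : Fin n → (V →ₗ[K] W)) (j : Fin n) (x : V) :
    sumMap f (Pi.single j x) = f j x := by
  rw [sumMap_apply, Finset.sum_eq_single j (fun i _ hi => by simp [hi]) (by simp), Pi.single_eq_same]

lemma isSubrep_top_range (f : Fin n → (V →ₗ[K] W)) :
    IsSubrep f ⊤ (LinearMap.range (sumMap f)) := fun j => by
  rintro _ ⟨x, -, rfl⟩
  exact ⟨Pi.single j x, sumMap_single f j x⟩

lemma isSubrep_ker_bot (f : Fin n → (V →ₗ[K] W)) :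
    IsSubrep f (LinearMap.ker (LinearMap.pi f)) ⊥ := fun j => by
  rintro _ ⟨x, hx, rfl⟩
  exact congrFun (LinearMap.mem_ker.1 hx) j

variable [FiniteDimensional K V] [FiniteDimensional K W]

lemma IsStable.isSemistable {f : Fin n → (V →ₗ[K] W)} (h : IsStable f) : IsSemistable f :=
  ⟨h.1, fun A B hs h0 h1 => (h.2 A B hs h0 h1).le⟩

lemma not_isSemistable_of_out_of_range {f : Fin n → (V →ₗ[K] W)} (hV : 0 < finrank K V) (hW : 0 < finrank K W)
    (h : n * finrank K V < finrank K W ∨ n * finrank K W < finrank K V) : ¬ IsSemistable f := by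
  rintro ⟨-, hs⟩
  rcases h with h | h
  · have hr : finrank K (LinearMap.range (sumMap f)) ≤ n * finrank K V := by
      refine (LinearMap.finrank_range_le _).trans ?_
      rw [finrank_pi_fintype]; simp
    have := hs ⊤ _ (isSubrep_top_range f)
      (fun h' => by have := congrArg (fun U : Submodule K V => finrank K U) h'.1; simp at this; omega)
      (fun h' => by rw [h'.2, finrank_top] at hr; omega)
    rw [finrank_top, Nat.mul_comm (finrank K W)] at this
    have := Nat.le_of_mul_le_mul_left this hV
    omega
  · have hk := LinearMap.finrank_range_add_finrank_ker (LinearMap.pi f)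
    have hr : finrank K (LinearMap.range (LinearMap.pi f)) ≤ n * finrank K W := by
      refine (Submodule.finrank_le _).trans ?_
      rw [finrank_pi_fintype]; simp
    have hk0 : 0 < finrank K (LinearMap.ker (LinearMap.pi f)) := by omega
    have := hs _ ⊥ (isSubrep_ker_bot f) (fun h' => by rw [h'.1, finrank_bot] at hk0; omega)
      (fun h' => by
        have := congrArg (fun U : Submodule K W => finrank K U) h'.2
        simp at this
        omega)
    rw [finrank_bot, Nat.mul_zero] at this
    exact absurd this (by have := Nat.mul_pos hW hk0; omega)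

lemma isSemistable_iff_bijective_sumMap {f : Fin n → (V →ₗ[K] W)} (hV : 0 < finrank K V)
    (hW : finrank K W = n * finrank K V) : IsSemistable f ↔ Function.Bijective (sumMap f) := by
  have hd : finrank K (Fin n → V) = finrank K W := by rw [finrank_pi_fintype, hW]; simp
  constructor
  · rintro ⟨-, hs⟩
    have hsurj : Function.Surjective (sumMap f) := by
      rw [← LinearMap.range_eq_top]
      by_contra hne
      have := hs ⊤ _ (isSubrep_top_range f)
        (fun h' => by have := congrArg (fun U : Submodule K V => finrank K U) h'.1; simp at this; omega)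
        (fun h' => hne h'.2)
      rw [finrank_top, Nat.mul_comm (finrank K W)] at this
      exact hne (Submodule.eq_top_of_finrank_eq
        (le_antisymm (Submodule.finrank_le _) (Nat.le_of_mul_le_mul_left this hV)))
    exact ⟨(LinearMap.injective_iff_surjective_of_finrank_eq_finrank hd).2 hsurj, hsurj⟩
  · intro hb
    refine ⟨by omega, fun A B hAB _ _ => ?_⟩
    let g : (Fin n → A) →ₗ[K] B := LinearMap.codRestrict B
      (sumMap f ∘ₗ LinearMap.pi (fun j => A.subtype ∘ₗ LinearMap.proj j)) (fun v => by
        rw [LinearMap.comp_apply, sumMap_apply]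
        exact sum_mem fun j _ => hAB j ⟨_, (v j).2, rfl⟩)
    have hg : Function.Injective g := fun v w h => by
      have := hb.1 (congrArg Subtype.val h)
      exact funext fun j => Subtype.ext (congrFun this j)
    have := LinearMap.finrank_le_finrank_of_injective hg
    rw [finrank_pi_fintype] at this
    simp at this
    rw [hW]
    calc n * finrank K V * finrank K A = finrank K V * (n * finrank K A) := by ring
      _ ≤ finrank K V * finrank K B := Nat.mul_le_mul_left _ this

lemma isSemistable_iff_bijective_pi {f : Fin n → (V →ₗ[K] W)} (hW : 0 < finrank K W)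
    (hV : finrank K V = n * finrank K W) : IsSemistable f ↔ Function.Bijective (LinearMap.pi f) := by
  have hd : finrank K V = finrank K (Fin n → W) := by rw [finrank_pi_fintype, hV]; simp
  constructor
  · rintro ⟨-, hs⟩
    have hinj : Function.Injective (LinearMap.pi f) := by
      rw [← LinearMap.ker_eq_bot]
      by_contra hne
      have := hs _ ⊥ (isSubrep_ker_bot f) (fun h' => hne h'.1)
        (fun h' => by have := congrArg (fun U : Submodule K W => finrank K U) h'.2; simp at this; omega)
      rw [finrank_bot, Nat.mul_zero] at this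
      have h0 : finrank K (LinearMap.ker (LinearMap.pi f)) = 0 := by
        rcases Nat.mul_eq_zero.1 (Nat.le_zero.1 this) with h | h <;> omega
      exact hne (Submodule.finrank_eq_zero.1 h0)
    exact ⟨hinj, (LinearMap.injective_iff_surjective_of_finrank_eq_finrank hd).1 hinj⟩
  · intro hb
    refine ⟨by omega, fun A B hAB _ _ => ?_⟩
    let g : A →ₗ[K] (Fin n → B) := LinearMap.pi fun j => LinearMap.codRestrict B (f j ∘ₗ A.subtype)
      (fun a => hAB j ⟨_, a.2, rfl⟩)
    have hg : Function.Injective g := fun a b h =>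
      Subtype.ext (hb.1 (funext fun j => congrArg Subtype.val (congrFun h j)))
    have := LinearMap.finrank_le_finrank_of_injective hg
    rw [finrank_pi_fintype] at this
    simp at this
    rw [hV]
    calc finrank K W * finrank K A ≤ finrank K W * (n * finrank K B) := Nat.mul_le_mul_left _ this
      _ = n * finrank K W * finrank K B := by ring

lemma isStable_iff_of_dim_eq_mul {f : Fin n → (V →ₗ[K] W)} (hV : 0 < finrank K V)
    (hW : finrank K W = n * finrank K V) :
    IsStable f ↔ IsSemistable f ∧ finrank K V = 1 := by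
  constructor
  · intro h
    refine ⟨IsStable.isSemistable h, ?_⟩
    by_contra hne
    haveI : Nontrivial V := finrank_pos_iff.1 hV
    obtain ⟨v, hv⟩ := exists_ne (0 : V)
    let B : Submodule K W := span K (Set.range fun j => f j v)
    have hs : IsSubrep f (K ∙ v) B := fun j => by
      rw [Submodule.map_span, Set.image_singleton, span_le, Set.singleton_subset_iff]
      exact subset_span ⟨j, rfl⟩
    have hA : finrank K (K ∙ v) = 1 := finrank_span_singleton hv
    have hB : finrank K B ≤ n := (finrank_range_le_card _).trans (by simp)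
    have := h.2 _ _ hs (fun h' => by rw [h'.1, finrank_bot] at hA; omega)
      (fun h' => by rw [h'.1, finrank_top] at hA; omega)
    rw [hA, Nat.mul_one, hW, Nat.mul_comm n] at this
    have := Nat.lt_of_mul_lt_mul_left this
    omega
  · rintro ⟨hss, h1⟩
    refine ⟨hss.1, fun A B hAB h0 htop => ?_⟩
    have hA : finrank K A ≤ 1 := h1 ▸ Submodule.finrank_le A
    rcases Nat.le_one_iff_eq_zero_or_eq_one.1 hA with hA0 | hA1
    · rw [hA0, Nat.mul_zero, h1, Nat.one_mul]
      exact Nat.pos_of_ne_zero fun hB => h0 ⟨Submodule.finrank_eq_zero.1 hA0, Submodule.finrank_eq_zero.1 hB⟩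
    · exfalso
      have hAt : A = ⊤ := Submodule.eq_top_of_finrank_eq (hA1.trans h1.symm)
      refine htop ⟨hAt, eq_top_iff.2 fun w _ => ?_⟩
      obtain ⟨v, rfl⟩ := ((isSemistable_iff_bijective_sumMap hV hW).1 hss).2 w
      rw [sumMap_apply]
      exact sum_mem fun j _ => hAB j ⟨_, hAt ▸ Submodule.mem_top, rfl⟩

lemma isStable_iff_of_mul_eq_dim {f : Fin n → (V →ₗ[K] W)} (hW : 0 < finrank K W)
    (hV : finrank K V = n * finrank K W) :
    IsStable f ↔ IsSemistable f ∧ finrank K W = 1 := by
  constructor
  · intro h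
    refine ⟨IsStable.isSemistable h, ?_⟩
    by_contra hne
    have hb := (isSemistable_iff_bijective_pi hW hV).1 (IsStable.isSemistable h)
    haveI : Nontrivial W := finrank_pos_iff.1 hW
    obtain ⟨w, hw⟩ := exists_ne (0 : W)
    let e := LinearEquiv.ofBijective (LinearMap.pi f) hb
    let A : Submodule K V := (Submodule.pi Set.univ fun _ => K ∙ w).map e.symm.toLinearMap
    have hs : IsSubrep f A (K ∙ w) := fun j => by
      rintro _ ⟨_, ⟨y, hy, rfl⟩, rfl⟩
      have : f j (e.symm y) = y j := congrFun (e.apply_symm_apply y) j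
      change f j (e.symm y) ∈ _
      rw [this]
      exact hy j trivial
    have hA : n ≤ finrank K A := by
      let g : (Fin n → K) →ₗ[K] A := LinearMap.codRestrict A
        (e.symm.toLinearMap ∘ₗ LinearMap.pi fun j => (LinearMap.toSpanSingleton K W w) ∘ₗ LinearMap.proj j)
        (fun c => ⟨_, fun j _ => Submodule.smul_mem _ _ (Submodule.mem_span_singleton_self w), rfl⟩)
      have hg : Function.Injective g := fun a b hab => funext fun j => by
        have := congrFun (e.symm.injective (congrArg Subtype.val hab)) j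
        simp only [LinearMap.pi_apply, LinearMap.comp_apply, LinearMap.proj_apply,
          LinearMap.toSpanSingleton_apply] at this
        exact smul_left_injective K hw this
      simpa using LinearMap.finrank_le_finrank_of_injective hg
    have hB : finrank K (K ∙ w) = 1 := finrank_span_singleton hw
    have := h.2 _ _ hs (fun h' => by rw [h'.2, finrank_bot] at hB; omega)
      (fun h' => by rw [h'.2, finrank_top] at hB; omega)
    rw [hB, Nat.mul_one, hV, Nat.mul_comm n] at this
    have := Nat.lt_of_mul_lt_mul_left this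
    omega
  · rintro ⟨hss, h1⟩
    refine ⟨hss.1, fun A B hAB h0 htop => ?_⟩
    have hB : finrank K B ≤ 1 := h1 ▸ Submodule.finrank_le B
    rcases Nat.le_one_iff_eq_zero_or_eq_one.1 hB with hB0 | hB1
    · exfalso
      have hBb : B = ⊥ := Submodule.finrank_eq_zero.1 hB0
      refine h0 ⟨eq_bot_iff.2 fun a ha => ?_, hBb⟩
      refine (Submodule.mem_bot K).2 (((isSemistable_iff_bijective_pi hW hV).1 hss).1 ?_)
      rw [map_zero]
      funext j
      exact (Submodule.mem_bot K).1 (hBb ▸ hAB j ⟨a, ha, rfl⟩ : f j a ∈ (⊥ : Submodule K W))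
    · rw [h1, hB1, Nat.one_mul, Nat.mul_one]
      exact Submodule.finrank_lt fun hA => htop ⟨hA, Submodule.eq_top_of_finrank_eq (hB1.trans h1.symm)⟩

lemma isSubrep_annihilator {f : Fin n → (V →ₗ[K] W)} {A : Submodule K V} {B : Submodule K W}
    (h : IsSubrep f A B) :
    IsSubrep (fun j => (f j).dualMap) B.dualAnnihilator A.dualAnnihilator := fun j => by
  rintro _ ⟨φ, hφ, rfl⟩
  rw [Submodule.mem_dualAnnihilator]
  exact fun a ha => (Submodule.mem_dualAnnihilator φ).1 hφ _ (h j ⟨a, ha, rfl⟩)

omit [FiniteDimensional K V] [FiniteDimensional K W] in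
lemma isSubrep_coannihilator {f : Fin n → (V →ₗ[K] W)} {A : Submodule K (Dual K W)}
    {B : Submodule K (Dual K V)} (h : IsSubrep (fun j => (f j).dualMap) A B) :
    IsSubrep f B.dualCoannihilator A.dualCoannihilator := fun j => by
  rintro _ ⟨x, hx, rfl⟩
  rw [Submodule.mem_dualCoannihilator]
  exact fun φ hφ => (Submodule.mem_dualCoannihilator x).1 hx _ (h j ⟨φ, hφ, rfl⟩)

/-- Duality preserves the family of weights. -/
lemma forall_subrep_dual_iff (R : ℕ → ℕ → ℕ → ℕ → Prop)
    (hR : ∀ v w a b, a ≤ v → b ≤ w → (R w v (w - b) (v - a) ↔ R v w a b)) (f : Fin n → (V →ₗ[K] W)) :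
    (∀ (A : Submodule K V) (B : Submodule K W), IsSubrep f A B → ¬(A = ⊥ ∧ B = ⊥) → ¬(A = ⊤ ∧ B = ⊤) →
        R (finrank K V) (finrank K W) (finrank K A) (finrank K B)) ↔
    (∀ (A : Submodule K (Dual K W)) (B : Submodule K (Dual K V)), IsSubrep (fun j => (f j).dualMap) A B →
        ¬(A = ⊥ ∧ B = ⊥) → ¬(A = ⊤ ∧ B = ⊤) →
        R (finrank K (Dual K W)) (finrank K (Dual K V)) (finrank K A) (finrank K B)) := by
  simp only [Subspace.dual_finrank_eq]
  have keyV : ∀ (P : Submodule K V), finrank K P.dualAnnihilator = finrank K V - finrank K P := fun P => by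
    have := Subspace.finrank_add_finrank_dualAnnihilator_eq P
    omega
  have keyW : ∀ (P : Submodule K W), finrank K P.dualAnnihilator = finrank K W - finrank K P := fun P => by
    have := Subspace.finrank_add_finrank_dualAnnihilator_eq P
    omega
  constructor
  · intro h A B hAB h0 h1
    have hA := Subspace.dualCoannihilator_dualAnnihilator_eq (W := A)
    have hB := Subspace.dualCoannihilator_dualAnnihilator_eq (W := B)
    have := h _ _ (isSubrep_coannihilator hAB)
      (fun ⟨h2, h3⟩ => h1 ⟨by rw [← hA, h3, dualAnnihilator_bot], by rw [← hB, h2, dualAnnihilator_bot]⟩)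
      (fun ⟨h2, h3⟩ => h0 ⟨by rw [← hA, h3, dualAnnihilator_top], by rw [← hB, h2, dualAnnihilator_top]⟩)
    rw [← hR _ _ _ _ (Submodule.finrank_le _) (Submodule.finrank_le _), ← keyV, ← keyW, hA, hB] at this
    exact this
  · intro h A B hAB h0 h1
    have := h _ _ (isSubrep_annihilator hAB)
      (fun ⟨h2, h3⟩ => h1 ⟨Subspace.dualAnnihilator_inj.1 (h3.trans dualAnnihilator_top.symm),
        Subspace.dualAnnihilator_inj.1 (h2.trans dualAnnihilator_top.symm)⟩)
      (fun ⟨h2, h3⟩ => h0 ⟨Subspace.dualAnnihilator_inj.1 (h3.trans dualAnnihilator_bot.symm),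
        Subspace.dualAnnihilator_inj.1 (h2.trans dualAnnihilator_bot.symm)⟩)
    rwa [keyV, keyW, hR _ _ _ _ (Submodule.finrank_le _) (Submodule.finrank_le _)] at this

end GrothLib.Kron
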