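import Groth.Agent.Lib.Kron.Basic
import Mathlib.LinearAlgebra.Matrix.ToLin
import Mathlib.LinearAlgebra.Matrix.ToLinearEquiv
import Mathlib.RingTheory.Polynomial.Basic
import Mathlib.LinearAlgebra.Matrix.Polynomial
import Mathlib.FieldTheory.IsAlgClosed.Basic
import Mathlib.LinearAlgebra.Eigenspace.Triangularizable
import Mathlib.Tactic.LinearCombination

/-!
# Regularity of semistable square pencils
-/

namespace GrothLib.Kron

open Submodule KronMod Module Polynomial

variable {K : Type*} [Field K] {V W : Type*} [AddCommGroup V] [Module K V] [FiniteDimensional K V]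
  [AddCommGroup W] [Module K W] [FiniteDimensional K W]

theorem exists_bijective_pencil [Infinite K] {f : Fin 2 → (V →ₗ[K] W)} {k : ℕ}
    (hV : finrank K V = k) (hW : finrank K W = k) (hf : IsSemistable f) :
    ∃ z : Fin 2 → K, Function.Bijective ((∑ j, z j • f j : V →ₗ[K] W) : V → W) := by
  classical
  by_contra hc
  push Not at hc
  let eV : V ≃ₗ[K] (Fin k → K) := LinearEquiv.ofFinrankEq _ _ (by simp [hV])
  let eW : W ≃ₗ[K] (Fin k → K) := LinearEquiv.ofFinrankEq _ _ (by simp [hW])
  let M : Fin 2 → Matrix (Fin k) (Fin k) K := fun j =>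
    LinearMap.toMatrix' (eW.toLinearMap ∘ₗ f j ∘ₗ eV.symm.toLinearMap)
  have hM : ∀ j x, (M j).mulVec x = eW (f j (eV.symm x)) := fun j x => by
    simp [M, LinearMap.toMatrix'_mulVec]
  let P : Matrix (Fin k) (Fin k) K[X] := (M 0).map C + (X : K[X]) • (M 1).map C
  have hdet : P.det = 0 := by
    refine Polynomial.eq_zero_of_infinite_isRoot _ (Set.infinite_univ.mono fun t _ => ?_)
    show IsRoot P.det t
    rw [IsRoot, ← Polynomial.coe_evalRingHom, RingHom.map_det]
    by_contra h
    refine hc ![1, t] ?_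
    have hu : IsUnit ((evalRingHom t).mapMatrix P) := by
      rw [Matrix.isUnit_iff_isUnit_det]
      exact (Ne.isUnit h)
    have hmul : ∀ x, ((evalRingHom t).mapMatrix P).mulVec x = eW ((∑ j, (![1, t] : Fin 2 → K) j • f j) (eV.symm x)) := by
      intro x
      have : (evalRingHom t).mapMatrix P = M 0 + t • M 1 := by
        ext i j
        simp only [P, RingHom.mapMatrix_apply, Matrix.map_apply, Matrix.add_apply, Matrix.smul_apply, smul_eq_mul,
          coe_evalRingHom, eval_add, eval_mul, eval_C, eval_X]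
      rw [this, Matrix.add_mulVec, Matrix.smul_mulVec, hM, hM]
      simp [Fin.sum_univ_two]
    have hinj : Function.Injective ((∑ j, (![1, t] : Fin 2 → K) j • f j : V →ₗ[K] W)) := by
      intro a b hab
      refine eV.injective (Matrix.mulVec_injective_iff_isUnit.2 hu ?_)
      rw [hmul, hmul, eV.symm_apply_apply, eV.symm_apply_apply, hab]
    exact ⟨hinj, (LinearMap.injective_iff_surjective_of_finrank_eq_finrank (hV.trans hW.symm)).1 hinj⟩
  obtain ⟨v, hv0, hv⟩ := Matrix.exists_mulVec_eq_zero_iff.2 hdet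
  let c : ℕ → V := fun i => eV.symm fun a => (v a).coeff i
  have hrel : ∀ i, f 0 (c (i + 1)) + f 1 (c i) = 0 := by
    intro i
    refine eW.injective ?_
    rw [map_add, map_zero, ← hM, ← hM]
    funext a
    have := congrArg (fun q : K[X] => q.coeff (i + 1)) (congrFun hv a)
    simpa [P, Matrix.mulVec, dotProduct, Matrix.add_apply, add_mul, Finset.sum_add_distrib, mul_assoc] using this
  have hrel0 : f 0 (c 0) = 0 := by
    refine eW.injective ?_
    rw [map_zero, ← hM]
    funext a
    have := congrArg (fun q : K[X] => q.coeff 0) (congrFun hv a)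
    simpa [P, Matrix.mulVec, dotProduct, Matrix.add_apply, add_mul, Finset.sum_add_distrib, mul_assoc] using this
  have hex : ∃ i, c i ≠ 0 := by
    by_contra h
    push Not at h
    refine hv0 (funext fun a => Polynomial.ext fun i => ?_)
    have : (fun a => (v a).coeff i) = 0 := eV.symm.map_eq_zero_iff.1 (h i)
    simpa using congrFun this a
  let A : Submodule K V := span K (Set.range c)
  let B : Submodule K W := A.map (f 0)
  have hsub : IsSubrep f A B := by
    intro j
    rcases Fin.exists_fin_two.1 ⟨j, rfl⟩ with h | h <;> subst h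
    · exact le_rfl
    · rw [Submodule.map_span, span_le]
      rintro _ ⟨_, ⟨i, rfl⟩, rfl⟩
      refine ⟨-c (i + 1), A.neg_mem (subset_span ⟨i + 1, rfl⟩), ?_⟩
      rw [map_neg]
      exact (eq_neg_of_add_eq_zero_right (hrel i)).symm
  have hker : ∃ x ∈ A, x ≠ 0 ∧ f 0 x = 0 := by
    refine ⟨c (Nat.find hex), subset_span ⟨_, rfl⟩, Nat.find_spec hex, ?_⟩
    rcases hm : Nat.find hex with _ | m
    · exact hrel0
    · have h0 : c m = 0 := not_not.1 (Nat.find_min hex (by omega))
      simpa [h0] using hrel m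
  obtain ⟨x, hxA, hx0, hx⟩ := hker
  have hlt : finrank K B < finrank K A := by
    have h1 := LinearMap.finrank_range_add_finrank_ker (f 0 ∘ₗ A.subtype)
    rw [LinearMap.range_comp, Submodule.range_subtype] at h1
    have h2 : 0 < finrank K (LinearMap.ker (f 0 ∘ₗ A.subtype)) := by
      rw [Nat.pos_iff_ne_zero, ne_eq, Submodule.finrank_eq_zero]
      intro h
      exact hx0 (congrArg Subtype.val ((Submodule.eq_bot_iff _).1 h ⟨x, hxA⟩ hx))
    change finrank K (A.map (f 0)) < _
    omega
  have := hf.2 A B hsub (fun h => by rw [h.1, finrank_bot] at hlt; omega)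
    (fun h => by
      rw [h.1, h.2, finrank_top, finrank_top, hV, hW] at hlt
      omega)
  rw [hV, hW] at this
  rcases Nat.eq_zero_or_pos k with rfl | hk
  · have := hf.1; omega
  · have := Nat.le_of_mul_le_mul_left this hk
    omega

theorem not_isStable_pencil [IsAlgClosed K] {f : Fin 2 → (V →ₗ[K] W)} {k : ℕ} (hk : 2 ≤ k)
    (hV : finrank K V = k) (hW : finrank K W = k) : ¬ IsStable f := by
  classical
  intro hs
  obtain ⟨z, hz⟩ := exists_bijective_pencil hV hW (IsStable.isSemistable hs)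
  haveI : Nontrivial V := finrank_pos_iff.1 (by omega : 0 < finrank K V)
  let L := LinearEquiv.ofBijective _ hz
  have hgen : ∀ g : Fin 2 → K, ∃ μ : K, ∃ v : V, v ≠ 0 ∧ (∑ j, g j • f j) v = μ • L v := fun g => by
    obtain ⟨μ, hμ⟩ := Module.End.exists_eigenvalue (L.symm.toLinearMap ∘ₗ (∑ j, g j • f j) : Module.End K V)
    obtain ⟨v, hv⟩ := hμ.exists_hasEigenvector
    refine ⟨μ, v, hv.2, ?_⟩
    have := congrArg L hv.apply_eq_smul
    simpa using this
  -- a vector on which both arrows are multiples of `L`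
  have hLv : ∀ v, L v = z 0 • f 0 v + z 1 • f 1 v := fun v => by
    simp [L, Fin.sum_univ_two]
  have hex : ∃ v : V, v ≠ 0 ∧ ∀ j, f j v ∈ K ∙ L v := by
    by_cases h0 : z 0 = 0
    · obtain ⟨μ, v, hv0, hv⟩ := hgen ![1, 0]
      have hv' : f 0 v = μ • L v := by simpa [Fin.sum_univ_two] using hv
      have h1 : z 1 ≠ 0 := fun h1 => hv0 (L.injective (by rw [map_zero, hLv, h0, h1, zero_smul, zero_smul, add_zero]))
      refine ⟨v, hv0, fun j => ?_⟩
      rcases Fin.exists_fin_two.1 ⟨j, rfl⟩ with h | h <;> subst h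
      · rw [hv']; exact smul_mem _ _ (mem_span_singleton_self _)
      · refine mem_span_singleton.2 ⟨(z 1)⁻¹, ?_⟩
        rw [hLv v, h0, zero_smul, zero_add, smul_smul, inv_mul_cancel₀ h1, one_smul]
    · obtain ⟨μ, v, hv0, hv⟩ := hgen ![0, 1]
      have hv' : f 1 v = μ • L v := by simpa [Fin.sum_univ_two] using hv
      refine ⟨v, hv0, fun j => ?_⟩
      rcases Fin.exists_fin_two.1 ⟨j, rfl⟩ with h | h <;> subst h
      · refine mem_span_singleton.2 ⟨(z 0)⁻¹ * (1 - z 1 * μ), ?_⟩
        have h' : z 0 • f 0 v = (1 - z 1 * μ) • L v := by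
          rw [sub_smul, one_smul, mul_smul, ← hv', hLv v]; abel
        rw [mul_smul, ← h', smul_smul, inv_mul_cancel₀ h0, one_smul]
      · rw [hv']; exact smul_mem _ _ (mem_span_singleton_self _)
  obtain ⟨v, hv0, hv⟩ := hex
  have hA : finrank K (K ∙ v) = 1 := finrank_span_singleton hv0
  have hB : finrank K (K ∙ L v) = 1 := finrank_span_singleton (fun h => hv0 (L.map_eq_zero_iff.1 h))
  have := hs.2 (K ∙ v) (K ∙ L v) (fun j => by
      rw [Submodule.map_span, Set.image_singleton, span_le, Set.singleton_subset_iff]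
      exact hv j)
    (fun h => by rw [h.1, finrank_bot] at hA; omega)
    (fun h => by rw [h.1, finrank_top, hV] at hA; omega)
  rw [hA, hB, hV, hW] at this
  omega

theorem exists_bijective_combination_dim_two {n : ℕ} {f : Fin n → (V →ₗ[K] W)}
    (hV : finrank K V = 2) (hW : finrank K W = 2) (hf : IsSemistable f) :
    ∃ z : Fin n → K, Function.Bijective ((∑ j, z j • f j : V →ₗ[K] W) : V → W) := by
  classical
  by_contra hc
  push Not at hc
  let S : Submodule K (V →ₗ[K] W) := span K (Set.range f)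
  have hsing : ∀ b ∈ S, ¬ Function.Injective b := by
    intro b hb hinj
    obtain ⟨z, rfl⟩ := (mem_span_range_iff_exists_fun K).1 hb
    exact hc z ⟨hinj, (LinearMap.injective_iff_surjective_of_finrank_eq_finrank (hV.trans hW.symm)).1 hinj⟩
  -- a line in `V` killed by all arrows, or a line in `W` containing all images
  have hker : ∀ v : V, v ≠ 0 → (∀ j, f j v = 0) → False := by
    intro v hv0 hv
    have hA : finrank K (K ∙ v) = 1 := finrank_span_singleton hv0
    have := hf.2 (K ∙ v) ⊥ (fun j => by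
        rw [Submodule.map_span, Set.image_singleton, span_le, Set.singleton_subset_iff, SetLike.mem_coe, hv]
        exact zero_mem _)
      (fun h => by rw [h.1, finrank_bot] at hA; omega)
      (fun h => by rw [h.1, finrank_top, hV] at hA; omega)
    rw [hA, finrank_bot, hW] at this
    omega
  have him : ∀ w : W, (∀ j x, f j x ∈ K ∙ w) → False := by
    intro w hw
    have hB : finrank K (K ∙ w) ≤ 1 := by
      refine (finrank_span_le_card _).trans ?_
      simp
    have := hf.2 ⊤ (K ∙ w) (fun j => by rintro _ ⟨x, -, rfl⟩; exact hw j x)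
      (fun h => by have := congrArg (fun U : Submodule K V => finrank K U) h.1; simp at this; omega)
      (fun h => by rw [h.2, finrank_top, hW] at hB; omega)
    rw [finrank_top, hV, hW] at this
    omega
  by_cases h0 : ∀ j, f j = 0
  · haveI : Nontrivial V := finrank_pos_iff.1 (by omega : 0 < finrank K V)
    obtain ⟨v, hv⟩ := exists_ne (0 : V)
    exact hker v hv fun j => by simp [h0 j]
  push Not at h0
  obtain ⟨j₀, hj₀⟩ := h0
  have ha : f j₀ ∈ S := subset_span ⟨j₀, rfl⟩
  obtain ⟨v₁, hv₁, hv₁0⟩ : ∃ v, f j₀ v = 0 ∧ v ≠ 0 := by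
    by_contra h
    push Not at h
    exact hsing _ ha ((injective_iff_map_eq_zero _).2 h)
  obtain ⟨v₂, hv₂⟩ : ∃ v, f j₀ v ≠ 0 := by
    by_contra h
    push Not at h
    exact hj₀ (LinearMap.ext h)
  set w₁ := f j₀ v₂ with hw₁def
  have hli : LinearIndependent K ![v₁, v₂] := by
    rw [LinearIndependent.pair_iff]
    intro s t hst
    have h1 := congrArg (f j₀) hst
    simp [hv₁, ← hw₁def, hv₂] at h1
    rw [h1, zero_smul, add_zero] at hst
    exact ⟨(smul_eq_zero.1 hst).resolve_right hv₁0, h1⟩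
  let bV : Basis (Fin 2) K V := basisOfLinearIndependentOfCardEqFinrank hli (by simp [hV])
  have hbV : ∀ i, bV i = ![v₁, v₂] i := fun i => by simp [bV]
  obtain ⟨w₂, hw₂⟩ : ∃ w₂ : W, LinearIndependent K ![w₁, w₂] := by
    obtain ⟨w₂, hw₂⟩ : ∃ w₂, w₂ ∉ K ∙ w₁ := by
      by_contra h
      push Not at h
      have h1 : finrank K (⊤ : Submodule K W) ≤ finrank K (K ∙ w₁) := Submodule.finrank_mono fun w _ => h w
      rw [finrank_top, hW, finrank_span_singleton hv₂] at h1
      omega
    refine ⟨w₂, (LinearIndependent.pair_iff' hv₂).2 fun a ha => hw₂ ?_⟩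
    exact mem_span_singleton.2 ⟨a, ha⟩
  let bW : Basis (Fin 2) K W := basisOfLinearIndependentOfCardEqFinrank hw₂ (by simp [hW])
  have hbW : ∀ i, bW i = ![w₁, w₂] i := fun i => by simp [bW]
  let φ : Fin 2 → Fin 2 → (V →ₗ[K] W) →ₗ[K] K := fun i j =>
    bW.coord i ∘ₗ LinearMap.applyₗ (bV j)
  have hdet : ∀ b ∈ S, φ 0 0 b * φ 1 1 b - φ 0 1 b * φ 1 0 b = 0 := by
    intro b hb
    by_contra h
    refine hsing b hb ((injective_iff_map_eq_zero _).2 fun v hv => ?_)
    have hc2 : ∀ i, φ i 0 b * bV.repr v 0 + φ i 1 b * bV.repr v 1 = 0 := by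
      intro i
      have h1 := congrArg (fun w => bW.coord i w) hv
      simp only [map_zero] at h1
      rw [← bV.sum_repr v, Fin.sum_univ_two, map_add, map_add, map_smul, map_smul, map_smul, map_smul] at h1
      simpa [φ, mul_comm] using h1
    have e0 := hc2 0
    have e1 := hc2 1
    have hx : bV.repr v 0 = 0 := by
      refine mul_left_cancel₀ h ?_
      linear_combination φ 1 1 b * e0 - φ 0 1 b * e1
    have hy : bV.repr v 1 = 0 := by
      refine mul_left_cancel₀ h ?_
      linear_combination φ 0 0 b * e1 - φ 1 0 b * e0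
    rw [← bV.sum_repr v, Fin.sum_univ_two, hx, hy, zero_smul, zero_smul, add_zero]
  have hw1c : ∀ i : Fin 2, bW.coord i w₁ = if i = 0 then 1 else 0 := fun i => by
    rw [show w₁ = bW 0 by simp [hbW], Basis.coord_apply, Basis.repr_self, Finsupp.single_apply]
    simp [eq_comm]
  have ha' : φ 0 0 (f j₀) = 0 ∧ φ 1 0 (f j₀) = 0 ∧ φ 0 1 (f j₀) = 1 ∧ φ 1 1 (f j₀) = 0 := by
    refine ⟨?_, ?_, ?_, ?_⟩ <;> simp [φ, hbV, hv₁, ← hw₁def, hw1c]
  have h10 : ∀ b ∈ S, φ 1 0 b = 0 := by
    intro b hb
    have h1 := hdet b hb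
    have h2 := hdet (b + f j₀) (add_mem hb ha)
    simp only [map_add, ha'.1, ha'.2.1, ha'.2.2.1, ha'.2.2.2, add_zero] at h2
    linear_combination h1 - h2
  have halt : (∀ b ∈ S, φ 0 0 b = 0) ∨ (∀ b ∈ S, φ 1 1 b = 0) := by
    by_contra h
    push Not at h
    obtain ⟨⟨b, hb, hb0⟩, c, hcS, hc0⟩ := h
    have h1 := hdet b hb
    have h2 := hdet c hcS
    have h3 := hdet (b + c) (add_mem hb hcS)
    simp only [map_add, h10 b hb, h10 c hcS, mul_zero, add_zero, sub_zero] at h1 h2 h3
    have hb1 : φ 1 1 b = 0 := (mul_eq_zero.1 h1).resolve_left hb0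
    have hc1 : φ 0 0 c = 0 := (mul_eq_zero.1 h2).resolve_right hc0
    rw [hb1, hc1, add_zero, zero_add] at h3
    exact mul_ne_zero hb0 hc0 h3
  have hS : ∀ j, f j ∈ S := fun j => subset_span ⟨j, rfl⟩
  rcases halt with h | h
  · refine hker v₁ hv₁0 fun j => bW.ext_elem fun i => ?_
    rw [map_zero, Finsupp.zero_apply, show v₁ = bV 0 by simp [hbV]]
    rcases Fin.exists_fin_two.1 ⟨i, rfl⟩ with hi | hi <;> subst hi
    · exact h _ (hS j)
    · exact h10 _ (hS j)
  · refine him w₁ fun j x => ?_
    rw [← bW.sum_repr (f j x), Fin.sum_univ_two]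
    have : bW.repr (f j x) 1 = 0 := by
      have e : bW.coord 1 (f j x) = bV.repr x 0 * φ 1 0 (f j) + bV.repr x 1 * φ 1 1 (f j) := by
        conv_lhs => rw [← bV.sum_repr x, Fin.sum_univ_two]
        simp [φ]
      rw [h10 _ (hS j), h _ (hS j), mul_zero, mul_zero, add_zero] at e
      exact e
    rw [this, zero_smul, add_zero, hbW]
    exact smul_mem _ _ (mem_span_singleton_self _)

end GrothLib.Kron
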